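import Mathlib

/-!
# Non-trivial words take non-central values in `SL₂` over large fields and in large alternating groups

Everything lives in `namespace Cfsg.Agent.WordMaps`. The key statement is `exists_bound_SL2`: for a non-trivial
word `w` there is `D` such that over every finite field with more than `D` elements some substitution of
elements of `SL₂` has a non-zero lower-left entry (in particular is not central).
-/

set_option autoImplicit false

open Polynomial Matrix
open scoped MatrixGroups

namespace Cfsg.Agent.WordMaps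

universe u v

section poly

variable {R : Type*} [CommRing R]

/-- Upper unitriangular element. -/
def upper (a : R) : SL(2, R) := ⟨!![1, a; 0, 1], by simp [det_fin_two_of]⟩

/-- Lower unitriangular element. -/
def lower (a : R) : SL(2, R) := ⟨!![1, 0; a, 1], by simp [det_fin_two_of]⟩

@[simp] theorem upper_coe (a : R) : (upper a : Matrix (Fin 2) (Fin 2) R) = !![1, a; 0, 1] := rfl

@[simp] theorem lower_coe (a : R) : (lower a : Matrix (Fin 2) (Fin 2) R) = !![1, 0; a, 1] := rfl

theorem upper_mul_00 (a : R) (M : SL(2, R)) :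
    (upper a * M).1 0 0 = M.1 0 0 + a * M.1 1 0 := by
  simp [Matrix.SpecialLinearGroup.coe_mul, Matrix.mul_apply, Fin.sum_univ_two]

theorem upper_mul_10 (a : R) (M : SL(2, R)) : (upper a * M).1 1 0 = M.1 1 0 := by
  simp [Matrix.SpecialLinearGroup.coe_mul, Matrix.mul_apply, Fin.sum_univ_two]

theorem lower_mul_00 (a : R) (M : SL(2, R)) : (lower a * M).1 0 0 = M.1 0 0 := by
  simp [Matrix.SpecialLinearGroup.coe_mul, Matrix.mul_apply, Fin.sum_univ_two]

theorem lower_mul_10 (a : R) (M : SL(2, R)) :
    (lower a * M).1 1 0 = M.1 1 0 + a * M.1 0 0 := by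
  simp [Matrix.SpecialLinearGroup.coe_mul, Matrix.mul_apply, Fin.sum_univ_two, add_comm]

theorem upper_inv (a : R) : (upper a)⁻¹ = upper (-a) := by
  apply inv_eq_of_mul_eq_one_right
  ext i j; fin_cases i <;> fin_cases j <;> simp [Matrix.SpecialLinearGroup.coe_mul]

theorem lower_inv (a : R) : (lower a)⁻¹ = lower (-a) := by
  apply inv_eq_of_mul_eq_one_right
  ext i j; fin_cases i <;> fin_cases j <;> simp [Matrix.SpecialLinearGroup.coe_mul]

end poly

variable (F : Type u) [Field F]

/-- first upper part of a letter -/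
noncomputable def pre : ℕ × Bool → F[X]
  | (i, true) => X ^ (i + 2)
  | (i, false) => X ^ (i + 2) - X

/-- lower part of a letter -/
noncomputable def mid : ℕ × Bool → F[X]
  | (_, true) => X
  | (_, false) => -X

/-- last upper part of a letter -/
noncomputable def post : ℕ × Bool → F[X]
  | (i, true) => X - X ^ (i + 2)
  | (i, false) => -X ^ (i + 2)

/-- image of the `i`-th generator -/
noncomputable def genVal (i : ℕ) : SL(2, F[X]) :=
  upper (pre F (i, true)) * lower (mid F (i, true)) * upper (post F (i, true))

/-- image of a letter -/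
noncomputable def letterVal (x : ℕ × Bool) : SL(2, F[X]) :=
  upper (pre F x) * lower (mid F x) * upper (post F x)

theorem cond_genVal (x : ℕ × Bool) :
    cond x.2 (genVal F x.1) (genVal F x.1)⁻¹ = letterVal F x := by
  obtain ⟨i, b⟩ := x
  cases b
  · simp only [cond_false, genVal, letterVal, _root_.mul_inv_rev, upper_inv, lower_inv, pre, mid,
      post, mul_assoc, neg_sub]
  · rfl

theorem natDegree_mid (x : ℕ × Bool) : (mid F x).natDegree = 1 := by
  obtain ⟨i, b⟩ := x
  cases b <;> simp [mid]

theorem mid_ne_zero (x : ℕ × Bool) : mid F x ≠ 0 := by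
  intro h
  simpa [h] using natDegree_mid F x

theorem junction (a b : ℕ × Bool) (h : a.1 = b.1 → a.2 = b.2) :
    1 ≤ (post F a + pre F b).natDegree := by
  obtain ⟨i, s⟩ := a
  obtain ⟨j, t⟩ := b
  simp only at h
  cases s <;> cases t
  · refine le_natDegree_of_ne_zero ?_
    simp [post, pre, coeff_X_pow, coeff_X]
  · refine le_trans (Nat.le_add_left 1 (j + 1)) (le_natDegree_of_ne_zero ?_)
    have : i ≠ j := fun e => by simpa using h e
    simp [post, pre, coeff_X_pow, coeff_X, Ne.symm this]
  · refine le_trans (Nat.le_add_left 1 (j + 1)) (le_natDegree_of_ne_zero ?_)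
    have : i ≠ j := fun e => by simpa using h e
    simp [post, pre, coeff_X_pow, coeff_X, Ne.symm this]
  · refine le_natDegree_of_ne_zero ?_
    simp [post, pre, coeff_X_pow, coeff_X]

theorem junction_le (a b : ℕ × Bool) :
    (post F a + pre F b).natDegree ≤ max (a.1 + 2) (b.1 + 2) := by
  have h1 : (post F a).natDegree ≤ a.1 + 2 := by
    obtain ⟨i, s⟩ := a
    cases s
    · simp [post]
    · refine (natDegree_sub_le _ _).trans ?_
      simp
  have h2 : (pre F b).natDegree ≤ b.1 + 2 := by
    obtain ⟨i, s⟩ := b
    cases s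
    · refine (natDegree_sub_le _ _).trans ?_
      simp
    · simp [pre]
  exact (natDegree_add_le _ _).trans (max_le_max h1 h2)

theorem word_structure (N : ℕ) : ∀ l : List (ℕ × Bool), FreeGroup.IsReduced l → (∀ x ∈ l, x.1 ≤ N) →
    ∀ a l', l = a :: l' → ∀ M, M = (l.map (letterVal F)).prod →
      (M.1 0 0 - pre F a * M.1 1 0).natDegree < (M.1 1 0).natDegree ∧
        (M.1 1 0).natDegree ≤ l.length * (N + 4) := by
  intro l
  induction l with
  | nil => intro _ _ a l' h; simp at h
  | cons x t ih =>
    intro hred hN a l' hl M hM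
    obtain ⟨rfl, rfl⟩ : x = a ∧ t = l' := by simpa using hl
    match t with
    | [] =>
      simp only [List.map_cons, List.map_nil, List.prod_cons, List.prod_nil, mul_one,
        letterVal, mul_assoc] at hM
      subst hM
      rw [upper_mul_00, upper_mul_10, lower_mul_00, lower_mul_10]
      have hu : ∀ c : F[X], (upper c).1 0 0 = 1 ∧ (upper c).1 1 0 = 0 := fun c => by simp
      simp [hu, natDegree_mid]
    | b :: t' =>
      have hjn := FreeGroup.isReduced_cons_cons.1 hred
      obtain ⟨h1, h2⟩ := ih hjn.2 (fun z hz => hN z (List.mem_cons_of_mem _ hz)) b t' rfl _ rfl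
      rw [List.map_cons, List.prod_cons] at hM
      generalize ((b :: t').map (letterVal F)).prod = M' at h1 h2 hM
      subst hM
      set q := M'.1 1 0 with hqdef
      set p := M'.1 0 0 - pre F b * q with hpdef
      set j := post F x + pre F b with hjdef
      have hj1 : 1 ≤ j.natDegree := junction F x b hjn.1
      have hq0 : q ≠ 0 := by intro h; simp [h] at h1
      have hj0 : j ≠ 0 := by intro h; simp [h] at hj1
      have hp'deg : (p + j * q).natDegree = j.natDegree + q.natDegree := by
        rw [natDegree_add_eq_right_of_natDegree_lt, natDegree_mul hj0 hq0]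
        rw [natDegree_mul hj0 hq0]; omega
      have hp'0 : p + j * q ≠ 0 := by intro h; rw [h, natDegree_zero] at hp'deg; omega
      have htop : M'.1 0 0 + post F x * q = p + j * q := by rw [hpdef, hjdef]; ring
      simp only [letterVal, mul_assoc, upper_mul_00, upper_mul_10, lower_mul_00, lower_mul_10]
      rw [← hqdef, htop]
      have hcdeg : (mid F x * (p + j * q)).natDegree = 1 + (p + j * q).natDegree := by
        rw [natDegree_mul (mid_ne_zero F x) hp'0, natDegree_mid]
      have hqnew : (q + mid F x * (p + j * q)).natDegree = 1 + (p + j * q).natDegree := by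
        rw [natDegree_add_eq_right_of_natDegree_lt, hcdeg]
        rw [hcdeg, hp'deg]; omega
      rw [add_sub_cancel_right, hqnew, hp'deg]
      refine ⟨by omega, ?_⟩
      have hjle : j.natDegree ≤ N + 2 :=
        (junction_le F x b).trans (max_le (by have := hN x (by simp); omega)
          (by have := hN b (by simp); omega))
      simp only [List.length_cons] at h2 ⊢
      rw [Nat.succ_mul]
      omega

/-- A non-trivial word has, over every large enough finite field, a value in `SL₂` with non-zero
lower-left entry. -/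
theorem exists_bound_SL2 (w : FreeGroup ℕ) (hw : w ≠ 1) :
    ∃ D : ℕ, ∀ (F : Type u) [Field F] [Fintype F], D < Fintype.card F →
      ∃ f : ℕ → SL(2, F), (FreeGroup.lift f w).1 1 0 ≠ 0 := by
  classical
  set l := w.toWord with hl
  set N := (l.map Prod.fst).sum with hN
  refine ⟨l.length * (N + 4), fun F _ _ hcard => ?_⟩
  have hne : l ≠ [] := fun h => hw (FreeGroup.toWord_eq_nil_iff.1 h)
  obtain ⟨a, l', hal⟩ := List.exists_cons_of_ne_nil hne
  obtain ⟨h1, h2⟩ := word_structure F N l FreeGroup.isReduced_toWord
    (fun x hx => List.single_le_sum (fun _ _ => Nat.zero_le _) _ (List.mem_map_of_mem hx)) a l' hal _ rfl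
  have hval : FreeGroup.lift (genVal F) w = (l.map (letterVal F)).prod := by
    conv_lhs => rw [← FreeGroup.mk_toWord (x := w), FreeGroup.lift_mk]
    simp only [cond_genVal]
    rfl
  set q := ((l.map (letterVal F)).prod).1 1 0 with hq
  have hq0 : q ≠ 0 := by intro h; simp [h] at h1
  obtain ⟨x, hx⟩ : ∃ x : F, q.eval x ≠ 0 := by
    by_contra hcon
    push Not at hcon
    exact hq0 (eq_zero_of_natDegree_lt_card_of_eval_eq_zero q Function.injective_id hcon (by omega))
  refine ⟨fun i => Matrix.SpecialLinearGroup.map (evalRingHom x) (genVal F i), ?_⟩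
  have hlift : FreeGroup.lift (fun i => Matrix.SpecialLinearGroup.map (evalRingHom x) (genVal F i)) w
      = Matrix.SpecialLinearGroup.map (evalRingHom x) (FreeGroup.lift (genVal F) w) := by
    symm
    exact FreeGroup.lift_unique ((Matrix.SpecialLinearGroup.map (evalRingHom x)).comp
      (FreeGroup.lift (genVal F))) (fun i => by simp)
  rw [hlift, hval]
  show (evalRingHom x).mapMatrix ((l.map (letterVal F)).prod).1 1 0 ≠ 0
  simpa [← hq] using hx

theorem not_mem_center_SL2 {F : Type u} [Field F] {g : SL(2, F)} (hg : g.1 1 0 ≠ 0) :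
    g ∉ Subgroup.center SL(2, F) := by
  intro h
  have := congrArg (fun M : SL(2, F) => M.1 0 0) (Subgroup.mem_center_iff.1 h (upper (1 : F)))
  simp only [upper_mul_00, one_mul] at this
  have h2 : (g * upper (1 : F)).1 0 0 = g.1 0 0 := by
    simp [Matrix.SpecialLinearGroup.coe_mul, Matrix.mul_apply, Fin.sum_univ_two]
  rw [h2] at this
  exact hg (by simpa using this)

/-- Values are transported along homomorphisms. -/
theorem lift_map {H M : Type*} [Group H] [Group M] (φ : H →* M) (f : ℕ → H) (w : FreeGroup ℕ) :
    FreeGroup.lift (fun i => φ (f i)) w = φ (FreeGroup.lift f w) :=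
  (FreeGroup.lift_unique (φ.comp (FreeGroup.lift f)) (fun i => by simp)).symm

/-- If `H` embeds into `M` and `w` has a non-central value on `H`, then `w` is not a law in any group
isomorphic to `M` modulo its centre. -/
theorem not_law_of_embedding {H M G : Type*} [Group H] [Group M] [Group G]
    (e : G ≃* M ⧸ Subgroup.center M) (φ : H →* M) (hφ : Function.Injective φ) (w : FreeGroup ℕ)
    (f : ℕ → H) (hv : FreeGroup.lift f w ∉ Subgroup.center H)
    (hlaw : ∀ g : ℕ → G, FreeGroup.lift g w = 1) : False := by
  have h := hlaw fun i => e.symm (QuotientGroup.mk' (Subgroup.center M) (φ (f i)))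
  have hl := lift_map (e.symm.toMonoidHom.comp ((QuotientGroup.mk' (Subgroup.center M)).comp φ)) f w
  simp only [MonoidHom.comp_apply, MulEquiv.coe_toMonoidHom] at hl
  rw [hl, map_eq_one_iff _ e.symm.injective] at h
  have hc : φ (FreeGroup.lift f w) ∈ Subgroup.center M := (QuotientGroup.eq_one_iff _).1 h
  refine hv (Subgroup.mem_center_iff.2 fun x => hφ ?_)
  rw [map_mul, map_mul]
  exact Subgroup.mem_center_iff.1 hc (φ x)

/-- Two disjoint copies of a permutation: an embedding of `Perm (Fin m)` into `alternatingGroup (Fin n)`. -/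
theorem exists_perm_to_alternating (m n : ℕ) (h : 2 * m ≤ n) :
    ∃ φ : Equiv.Perm (Fin m) →* alternatingGroup (Fin n), Function.Injective φ := by
  classical
  let ι : Fin m ⊕ Fin m ↪ Fin n :=
    finSumFinEquiv.toEmbedding.trans (Fin.castLEEmb (by omega))
  let d : Equiv.Perm (Fin m) →* Equiv.Perm (Fin n) :=
    (Equiv.Perm.viaEmbeddingHom ι).comp
      ((Equiv.Perm.sumCongrHom (Fin m) (Fin m)).comp ((MonoidHom.id _).prod (MonoidHom.id _)))
  have hs : ∀ σ, d σ ∈ alternatingGroup (Fin n) := by
    intro σ
    rw [Equiv.Perm.mem_alternatingGroup]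
    simp only [d, MonoidHom.comp_apply, Equiv.Perm.viaEmbeddingHom_apply, Equiv.Perm.viaEmbedding]
    rw [Equiv.Perm.sign_extendDomain]
    simp [Equiv.Perm.sumCongrHom]
  refine ⟨d.codRestrict _ hs, fun σ τ hστ => ?_⟩
  have hd : d σ = d τ := congrArg Subtype.val hστ
  have h2 := Equiv.Perm.sumCongrHom_injective (Equiv.Perm.viaEmbeddingHom_injective ι hd)
  exact congrArg Prod.fst h2

/-- A non-trivial word has a non-central value in all large alternating groups. -/
theorem exists_bound_alternating (w : FreeGroup ℕ) (hw : w ≠ 1) :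
    ∃ N : ℕ, ∀ n : ℕ, N ≤ n → ∃ f : ℕ → alternatingGroup (Fin n),
      FreeGroup.lift f w ≠ 1 ∧ FreeGroup.lift f w ∉ Subgroup.center (alternatingGroup (Fin n)) := by
  classical
  obtain ⟨D, hD⟩ := exists_bound_SL2.{0} w hw
  obtain ⟨p, hpD, hp⟩ := Nat.exists_infinite_primes (D + 1)
  have : Fact p.Prime := ⟨hp⟩
  obtain ⟨f, hf⟩ := hD (ZMod p) (by rw [ZMod.card]; omega)
  let m := Fintype.card SL(2, ZMod p)
  refine ⟨2 * m + 4, fun n hn => ?_⟩
  obtain ⟨φ, hφ⟩ := exists_perm_to_alternating m n (by omega)
  let c : SL(2, ZMod p) →* Equiv.Perm (Fin m) :=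
    ((Fintype.equivFin SL(2, ZMod p)).permCongrHom.toMonoidHom).comp
      (MulAction.toPermHom SL(2, ZMod p) SL(2, ZMod p))
  have hc : Function.Injective c :=
    (Fintype.equivFin SL(2, ZMod p)).permCongrHom.injective.comp MulAction.toPerm_injective
  refine ⟨fun i => φ (c (f i)), ?_⟩
  have hne : FreeGroup.lift (fun i => φ (c (f i))) w ≠ 1 := by
    have hl := lift_map (φ.comp c) f w
    simp only [MonoidHom.comp_apply] at hl
    rw [hl]
    intro h
    have h1 : FreeGroup.lift f w = 1 := by
      apply hφ.comp hc
      simpa using h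
    rw [h1] at hf
    simp at hf
  refine ⟨hne, ?_⟩
  rw [alternatingGroup.center_eq_bot (by rw [Nat.card_eq_fintype_card, Fintype.card_fin]; omega),
    Subgroup.mem_bot]
  exact hne

end Cfsg.Agent.WordMaps
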