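import Mathlib
import Cfsg.Prelude.Def_Classical
import Cfsg.Agent.Lib.WordMaps.Basic

/-!
# Non-trivial words take non-central values in large classical groups

`exists_bound_classical` gives for each non-trivial word a threshold such that in `SL_n`, `Sp_{2m}`, the three
orthogonal `Ω` and `SU_n` a field or a rank above the threshold gives a non-central value of the word.
-/

set_option autoImplicit false

open Matrix
open scoped MatrixGroups

namespace Cfsg.Agent.WordMaps.Classical

/-- The word `w` has a non-central value in `M`. -/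
def NonCentralValue (w : FreeGroup ℕ) (M : Type*) [Group M] : Prop :=
  ∃ f : ℕ → M, FreeGroup.lift f w ∉ Subgroup.center M

theorem NonCentralValue.map {w : FreeGroup ℕ} {H M : Type*} [Group H] [Group M]
    (h : NonCentralValue w H) (φ : H →* M) (hφ : Function.Injective φ) : NonCentralValue w M := by
  obtain ⟨f, hf⟩ := h
  refine ⟨fun i => φ (f i), fun hc => hf (Subgroup.mem_center_iff.2 fun x => hφ ?_)⟩
  rw [lift_map φ f w] at hc
  rw [map_mul, map_mul]
  exact Subgroup.mem_center_iff.1 hc (φ x)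

theorem NonCentralValue.not_law {w : FreeGroup ℕ} {G M : Type*} [Group G] [Group M]
    (h : NonCentralValue w M) (e : G ≃* M ⧸ Subgroup.center M)
    (hlaw : ∀ g : ℕ → G, FreeGroup.lift g w = 1) : False := by
  obtain ⟨f, hf⟩ := h
  exact not_law_of_embedding e (MonoidHom.id M) Function.injective_id w f hf hlaw

/-- A homomorphism from a perfect group lands in the commutator subgroup. -/
theorem apply_mem_commutator {H O : Type*} [Group H] [Group O] (hH : commutator H = ⊤) (φ : H →* O)
    (h : H) : φ h ∈ commutator O := by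
  have h1 : φ h ∈ (commutator H).map φ := ⟨h, by rw [hH]; trivial, rfl⟩
  rw [commutator_def, Subgroup.map_commutator] at h1
  rw [commutator_def]
  exact Subgroup.commutator_mono le_top le_top h1

theorem SL2_perfect (K : Type*) [Field K] [Fintype K] (hK : 4 ≤ Fintype.card K) :
    commutator SL(2, K) = ⊤ := by
  classical
  obtain ⟨a, -, ha⟩ : ∃ a ∈ (Finset.univ : Finset K), a ∉ ({0, 1, -1} : Finset K) := by
    apply Finset.exists_mem_notMem_of_card_lt_card
    rw [Finset.card_univ]
    have := Finset.card_le_three (a := (0 : K)) (b := 1) (c := -1)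
    omega
  simp only [Finset.mem_insert, Finset.mem_singleton, not_or] at ha
  refine SL2.commutator_eq_top ha.1 ?_
  rw [ne_eq, sq_eq_one_iff]
  tauto

/-! ### Homomorphisms into the classical groups -/

section homs

variable (F : Type) [Field F]

/-- Extend a matrix of the first summand by the identity on the second one, along `Fin a ⊕ Fin b ≃ Fin (a + b)`. -/
def blockHom (a b : ℕ) : Matrix (Fin a) (Fin a) F →* Matrix (Fin (a + b)) (Fin (a + b)) F where
  toFun A := reindex finSumFinEquiv finSumFinEquiv (fromBlocks A 0 0 1)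
  map_one' := by simp [fromBlocks_one]
  map_mul' A B := by
    simp [reindex_apply, submatrix_mul_equiv, fromBlocks_multiply]

theorem blockHom_injective (a b : ℕ) : Function.Injective (blockHom F a b) := by
  intro A B h
  exact (fromBlocks_inj.1 ((reindex finSumFinEquiv finSumFinEquiv).injective h)).1

theorem det_blockHom (a b : ℕ) (A : Matrix (Fin a) (Fin a) F) : (blockHom F a b A).det = A.det := by
  simp [blockHom, det_fromBlocks_zero₂₁]

/-- Block embedding of special linear groups. -/
def slBlock (a b : ℕ) : SL(a, F) →* SL(a + b, F) where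
  toFun g := ⟨blockHom F a b g.1, by rw [det_blockHom]; exact g.2⟩
  map_one' := Subtype.ext (map_one (blockHom F a b))
  map_mul' g h := Subtype.ext (map_mul (blockHom F a b) g.1 h.1)

theorem slBlock_injective (a b : ℕ) : Function.Injective (slBlock F a b) :=
  fun _ _ h => Subtype.ext (blockHom_injective F a b (congrArg Subtype.val h))

theorem permMatrixHom_injective (n : ℕ) :
    Function.Injective (Matrix.permMatrixHom (n := Fin n) (R := F)) := by
  intro σ τ h
  have hi : ∀ i, σ⁻¹ i = τ⁻¹ i := by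
    intro i
    by_contra hne
    have h1 := congrFun (congrArg (fun M : Matrix (Fin n) (Fin n) F => M *ᵥ Pi.single (σ⁻¹ i) (1 : F)) h) i
    simp only [Matrix.permMatrixHom_apply, permMatrix_mulVec, Function.comp_apply] at h1
    rw [Pi.single_eq_same, Pi.single_eq_of_ne (Ne.symm hne)] at h1
    exact one_ne_zero h1
  exact inv_injective (Equiv.ext hi)

/-- Permutation matrices of even permutations. -/
def altPerm (n : ℕ) : alternatingGroup (Fin n) →* SL(n, F) where
  toFun σ := ⟨Matrix.permMatrixHom (R := F) σ.1, by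
    simp [Equiv.Perm.mem_alternatingGroup.1 σ.2]⟩
  map_one' := Subtype.ext (map_one Matrix.permMatrixHom)
  map_mul' σ τ := Subtype.ext (map_mul Matrix.permMatrixHom σ.1 τ.1)

theorem altPerm_injective (n : ℕ) : Function.Injective (altPerm F n) :=
  fun _ _ h => Subtype.ext (permMatrixHom_injective F n (congrArg Subtype.val h))

/-- `A ↦ diag(A, A⁻ᵀ)`. -/
def hypMat (k : ℕ) : GL (Fin k) F →* Matrix (Fin k ⊕ Fin k) (Fin k ⊕ Fin k) F where
  toFun A := fromBlocks A.1 0 0 ((A⁻¹).1)ᵀ
  map_one' := by simp [fromBlocks_one]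
  map_mul' A B := by simp [fromBlocks_multiply, transpose_mul]

theorem hypMat_injective (k : ℕ) : Function.Injective (hypMat F k) :=
  fun _ _ h => Units.ext (fromBlocks_inj.1 h).1

theorem hypMat_mem_symplectic (k : ℕ) (A : GL (Fin k) F) :
    hypMat F k A ∈ Matrix.symplecticGroup (Fin k) F := by
  rw [SymplecticGroup.mem_iff]
  simp [hypMat, Matrix.J, fromBlocks_transpose, fromBlocks_multiply, ← transpose_mul]

/-- `GL_k → Sp_{2k}`. -/
def hypSp (k : ℕ) : GL (Fin k) F →* Matrix.symplecticGroup (Fin k) F where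
  toFun A := ⟨hypMat F k A, hypMat_mem_symplectic F k A⟩
  map_one' := Subtype.ext (map_one (hypMat F k))
  map_mul' A B := Subtype.ext (map_mul (hypMat F k) A B)

theorem hypSp_injective (k : ℕ) : Function.Injective (hypSp F k) :=
  fun _ _ h => hypMat_injective F k (congrArg Subtype.val h)

theorem hyp_pairing (k : ℕ) (A : GL (Fin k) F) (x y : Fin k → F) :
    (A.1 *ᵥ x) ⬝ᵥ (((A⁻¹).1)ᵀ *ᵥ y) = x ⬝ᵥ y := by
  rw [dotProduct_mulVec, vecMul_transpose, mulVec_mulVec]
  simp [← Units.val_mul]

theorem hypMat_mulVec (k : ℕ) (A : GL (Fin k) F) (v : Fin k ⊕ Fin k → F) :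
    hypMat F k A *ᵥ v =
      Sum.elim (A.1 *ᵥ (v ∘ Sum.inl)) (((A⁻¹).1)ᵀ *ᵥ (v ∘ Sum.inr)) := by
  simp [hypMat, fromBlocks_mulVec]

theorem hyp_sum (k : ℕ) (A : GL (Fin k) F) (v : Fin k ⊕ Fin k → F) :
    ∑ i, (hypMat F k A *ᵥ v) (.inl i) * (hypMat F k A *ᵥ v) (.inr i) =
      ∑ i, v (.inl i) * v (.inr i) := by
  have := hyp_pairing F k A (v ∘ Sum.inl) (v ∘ Sum.inr)
  simpa [hypMat_mulVec, dotProduct] using this

/-- `GL_k → O⁺_{2k}`. -/
def hypPlus (k : ℕ) : GL (Fin k) F →* Cfsg.isometryGroup F (Cfsg.quadFormPlus k F) :=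
  ((hypMat F k).toHomUnits).codRestrict _ fun A _ _ => hyp_sum F k A _

theorem hypPlus_injective (k : ℕ) : Function.Injective (hypPlus F k) :=
  fun _ _ h => hypMat_injective F k (congrArg (fun g : Cfsg.isometryGroup F (Cfsg.quadFormPlus k F) => Units.val g.1) h)

/-- `A ↦ diag(1, A, A⁻ᵀ)`. -/
def oddMat (k : ℕ) :
    GL (Fin k) F →* Matrix (Unit ⊕ (Fin k ⊕ Fin k)) (Unit ⊕ (Fin k ⊕ Fin k)) F where
  toFun A := fromBlocks 1 0 0 (hypMat F k A)
  map_one' := by simp [fromBlocks_one]
  map_mul' A B := by simp [fromBlocks_multiply]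

/-- `GL_k → O_{2k+1}`. -/
def hypOdd (k : ℕ) : GL (Fin k) F →* Cfsg.isometryGroup F (Cfsg.quadFormOdd k F) :=
  ((oddMat F k).toHomUnits).codRestrict _ fun A u _ => by
    show Cfsg.quadFormOdd k F (oddMat F k A *ᵥ u) = Cfsg.quadFormOdd k F u
    have := hyp_sum F k A (u ∘ Sum.inr)
    simp [Cfsg.quadFormOdd, oddMat, fromBlocks_mulVec] at this ⊢
    rw [this]

theorem hypOdd_injective (k : ℕ) : Function.Injective (hypOdd F k) :=
  fun A B h => by
    have h1 : oddMat F k A = oddMat F k B :=
      congrArg (fun g : Cfsg.isometryGroup F (Cfsg.quadFormOdd k F) => Units.val g.1) h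
    exact hypMat_injective F k (fromBlocks_inj.1 h1).2.2.2

/-- `A ↦ diag(A, A⁻ᵀ, 1)`. -/
def minusMat (k : ℕ) :
    GL (Fin k) F →* Matrix ((Fin k ⊕ Fin k) ⊕ Fin 2) ((Fin k ⊕ Fin k) ⊕ Fin 2) F where
  toFun A := fromBlocks (hypMat F k A) 0 0 1
  map_one' := by simp [fromBlocks_one]
  map_mul' A B := by simp [fromBlocks_multiply]

/-- `GL_k → O⁻_{2k+2}`. -/
def hypMinus (k : ℕ) (a b : F) :
    GL (Fin k) F →* Cfsg.isometryGroup F (Cfsg.quadFormMinus k F a b) :=
  ((minusMat F k).toHomUnits).codRestrict _ fun A u _ => by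
    show Cfsg.quadFormMinus k F a b (minusMat F k A *ᵥ u) = Cfsg.quadFormMinus k F a b u
    have := hyp_sum F k A (u ∘ Sum.inl)
    simp [Cfsg.quadFormMinus, minusMat, fromBlocks_mulVec] at this ⊢
    rw [this]

theorem hypMinus_injective (k : ℕ) (a b : F) : Function.Injective (hypMinus F k a b) :=
  fun A B h => by
    have h1 : minusMat F k A = minusMat F k B :=
      congrArg (fun g : Cfsg.isometryGroup F (Cfsg.quadFormMinus k F a b) => Units.val g.1) h
    exact hypMat_injective F k (fromBlocks_inj.1 h1).1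

end homs

/-! ### Unitary groups -/

section unitary

variable {F : Type} [Field F] (q : ℕ)

theorem mem_SU {n : ℕ} (σ : F →+* F) (hσ : ∀ x, σ x = x ^ q) (g : SL(n, F))
    (h : g.1ᵀ * g.1.map σ = 1) : g ∈ Cfsg.SU n F q := by
  intro u v
  have key : ∀ x y : Fin n → F, Cfsg.hermForm n F q x y = x ⬝ᵥ (σ ∘ y) := by
    intro x y
    simp [Cfsg.hermForm, dotProduct, hσ]
  have hg : Cfsg.slToMat n F g = g.1 := rfl
  rw [key, key, hg]
  have h2 : σ ∘ (g.1 *ᵥ v) = g.1.map σ *ᵥ (σ ∘ v) := funext fun i => RingHom.map_mulVec σ g.1 v i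
  rw [h2, dotProduct_mulVec, ← mulVec_transpose, mulVec_mulVec]
  have h3 : (g.1.map σ)ᵀ * g.1 = 1 := by
    have := congrArg transpose h
    simpa [transpose_mul] using this
  rw [h3, one_mulVec]

theorem altPerm_mem_SU (σ : F →+* F) (hσ : ∀ x, σ x = x ^ q) (n : ℕ) (τ : alternatingGroup (Fin n)) :
    altPerm F n τ ∈ Cfsg.SU n F q := by
  refine mem_SU q σ hσ _ ?_
  have h1 : (Matrix.permMatrixHom (R := F) τ.1).map σ = Matrix.permMatrixHom (R := F) τ.1 := by
    ext i j
    simp only [Matrix.permMatrixHom_apply, map_apply, PEquiv.toMatrix_apply]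
    split_ifs <;> simp
  show (Matrix.permMatrixHom (R := F) τ.1)ᵀ * (Matrix.permMatrixHom (R := F) τ.1).map σ = 1
  rw [h1, Matrix.permMatrixHom_apply, transpose_permMatrix, inv_inv, ← permMatrix_mul]
  simp

variable [Fintype F]

/-- For `|F| = q²`: the Frobenius of order 2, a subfield with at least `q - 1` elements fixed by it and a
hyperbolic change of coordinates in dimension 2. -/
theorem exists_hyperbolic (hq : 2 ≤ q) (hF : Fintype.card F = q ^ 2) :
    ∃ (σ : F →+* F), (∀ x, σ x = x ^ q) ∧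
    ∃ K : Subfield F, (∀ x ∈ K, σ x = x) ∧ q - 1 ≤ Nat.card K ∧
    ∃ (P : Matrix (Fin 2) (Fin 2) F) (μ : F), P.det ≠ 0 ∧
      Pᵀ * P.map σ = !![0, μ; -μ, 0] := by
  classical
  obtain ⟨p, hp⟩ := CharP.exists F
  have := hp
  obtain ⟨n, hpp, hcard⟩ := FiniteField.card F p
  have hpf : Fact p.Prime := ⟨hpp⟩
  have : ExpChar F p := ExpChar.prime hpp
  obtain ⟨k, -, hk⟩ : ∃ k, k ≤ (n : ℕ) ∧ q = p ^ k := by
    apply (Nat.dvd_prime_pow hpp).1
    rw [← hcard, hF]
    exact dvd_pow_self q two_ne_zero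
  have hσdef : ∀ x : F, iterateFrobenius F p k x = x ^ q := by
    intro x
    rw [iterateFrobenius_def, hk]
  generalize hσ' : iterateFrobenius F p k = σ at hσdef
  refine ⟨σ, hσdef, ?_⟩
  have hqq : ∀ x : F, (x ^ q) ^ q = x := by
    intro x
    rw [← pow_mul, ← sq, ← hF, FiniteField.pow_card]
  obtain ⟨g, hg⟩ := IsCyclic.exists_ofOrder_eq_natCard (α := Fˣ)
  have hgo : orderOf g = (q - 1) * (q + 1) := by
    rw [hg, Nat.card_eq_fintype_card, Fintype.card_units, hF]
    obtain ⟨r, rfl⟩ := Nat.exists_eq_add_of_le hq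
    have : (2 + r) ^ 2 = (2 + r - 1) * (2 + r + 1) + 1 := by
      rw [show 2 + r - 1 = 1 + r by omega]; ring
    omega
  refine ⟨RingHom.eqLocusField σ (RingHom.id F), fun x hx => hx, ?_, ?_⟩
  · -- powers of `g ^ (q + 1)` are fixed
    have hord : orderOf (g ^ (q + 1)) = q - 1 := by
      rw [orderOf_pow, hgo, Nat.gcd_eq_right (dvd_mul_left _ _), Nat.mul_div_cancel _ (by omega)]
    have hfix : ∀ i : Fin (q - 1),
        (((g ^ (q + 1)) ^ (i : ℕ) : Fˣ) : F) ∈ RingHom.eqLocusField σ (RingHom.id F) := by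
      intro i
      show σ _ = _
      have h1 : ((g ^ (q + 1)) ^ (i : ℕ)) ^ q = (g ^ (q + 1)) ^ (i : ℕ) := by
        rw [← pow_mul, mul_comm, pow_mul]
        congr 1
        calc (g ^ (q + 1)) ^ q = (g ^ (q + 1)) ^ ((q - 1) + 1) := by rw [Nat.sub_add_cancel (by omega)]
          _ = g ^ (q + 1) := by
            rw [pow_succ]
            nth_rw 1 [← hord]
            rw [pow_orderOf_eq_one, one_mul]
      rw [hσdef]
      simpa using congrArg Units.val h1
    have hinj : Function.Injective (fun i : Fin (q - 1) =>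
        (⟨_, hfix i⟩ : RingHom.eqLocusField σ (RingHom.id F))) := by
      intro i j hij
      have h1 : (g ^ (q + 1)) ^ (i : ℕ) = (g ^ (q + 1)) ^ (j : ℕ) :=
        Units.ext (congrArg Subtype.val hij)
      exact Fin.ext (pow_injOn_Iio_orderOf (by simp [hord]) (by simp [hord]) h1)
    have hle := Nat.card_le_card_of_injective _ hinj
    rwa [Nat.card_eq_fintype_card, Fintype.card_fin] at hle
  · -- elements
    obtain ⟨μ, hμ0, hμ⟩ : ∃ μ : F, μ ≠ 0 ∧ μ ^ q = -μ := by
      by_cases h2 : (-1 : F) = 1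
      · exact ⟨1, one_ne_zero, by simp [h2]⟩
      obtain ⟨j, hj⟩ : (-1 : Fˣ) ∈ Subgroup.zpowers g := by
        rw [Subgroup.eq_top_of_card_eq (Subgroup.zpowers g) (by rw [Nat.card_zpowers, hg])]
        trivial
      -- `-1` is a `(q-1)`-st power
      have hm : ∃ m : ℤ, j = ((q - 1 : ℕ) : ℤ) * m := by
        have h1 : g ^ (j * 2) = 1 := by
          rw [_root_.zpow_mul]
          simp only at hj
          rw [hj]
          simp
        have h3 : ((q - 1 : ℕ) : ℤ) * ((q + 1 : ℕ) : ℤ) ∣ j * 2 := by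
          have := orderOf_dvd_iff_zpow_eq_one.2 h1
          rw [hgo] at this
          exact_mod_cast this
        have hodd : Odd q := by
          rw [hk]
          refine Odd.pow (hpp.odd_of_ne_two fun hp2 => h2 ?_)
          subst hp2
          exact CharTwo.neg_eq 1
        obtain ⟨t, ht⟩ := h3
        obtain ⟨r, hr⟩ := hodd
        refine ⟨((r : ℤ) + 1) * t, ?_⟩
        have h4 : ((q + 1 : ℕ) : ℤ) = 2 * ((r : ℤ) + 1) := by rw [hr]; push_cast; ring
        rw [h4] at ht
        linarith
      obtain ⟨m, rfl⟩ := hm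
      refine ⟨((g ^ m : Fˣ) : F), Units.ne_zero _, ?_⟩
      have h5 : (g ^ m) ^ (q - 1) = -1 := by
        rw [← zpow_natCast, ← _root_.zpow_mul, mul_comm]
        simpa using hj
      have h6 : (((g ^ m : Fˣ) : F)) ^ (q - 1) = -1 := by
        rw [← Units.val_pow_eq_pow_val, h5]; simp
      calc ((g ^ m : Fˣ) : F) ^ q = ((g ^ m : Fˣ) : F) ^ ((q - 1) + 1) := by
            rw [Nat.sub_add_cancel (by omega)]
        _ = _ := by rw [pow_succ, h6]; ring
    obtain ⟨ε, ε', hne, hε, hε'⟩ : ∃ ε ε' : F, ε ≠ ε' ∧ ε * ε ^ q = -1 ∧ ε' * ε' ^ q = -1 := by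
      obtain ⟨j, hj⟩ : (-1 : Fˣ) ∈ Subgroup.zpowers g := by
        rw [Subgroup.eq_top_of_card_eq (Subgroup.zpowers g) (by rw [Nat.card_zpowers, hg])]
        trivial
      simp only at hj
      have h1 : g ^ (j * ((q - 1 : ℕ) : ℤ)) = 1 := by
        rw [_root_.zpow_mul, hj, zpow_natCast]
        by_cases hp2 : p = 2
        · subst hp2
          have h : (-1 : F) = 1 := CharTwo.neg_eq 1
          ext; simp [h]
        · have hodd : Odd q := by rw [hk]; exact Odd.pow (hpp.odd_of_ne_two hp2)
          obtain ⟨r, hr⟩ := hodd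
          rw [Even.neg_one_pow ⟨r, by omega⟩]
      have h3 : ((q - 1 : ℕ) : ℤ) * ((q + 1 : ℕ) : ℤ) ∣ j * ((q - 1 : ℕ) : ℤ) := by
        have := orderOf_dvd_iff_zpow_eq_one.2 h1
        rw [hgo] at this
        exact_mod_cast this
      obtain ⟨t, ht⟩ := h3
      have hjt : j = ((q + 1 : ℕ) : ℤ) * t := by
        apply mul_right_cancel₀ (b := ((q - 1 : ℕ) : ℤ)) (by omega)
        linarith
      have key : (g ^ t) * (g ^ t) ^ q = -1 := by
        rw [← zpow_natCast, ← _root_.zpow_mul, ← _root_.zpow_add, ← hj, hjt]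
        congr 1
        push_cast
        ring
      have hord : (g ^ (q - 1)) ^ (q + 1) = 1 := by
        rw [← pow_mul, ← hgo, pow_orderOf_eq_one]
      refine ⟨((g ^ t : Fˣ) : F), ((g ^ t * g ^ (q - 1) : Fˣ) : F), ?_, ?_, ?_⟩
      · intro h
        have h' : g ^ (q - 1) = 1 := by simpa using Units.ext h
        have hle := Nat.le_of_dvd (by omega) (orderOf_dvd_of_pow_eq_one h')
        rw [hgo] at hle
        nlinarith [hle, (show 1 ≤ q - 1 by omega)]
      · rw [← Units.val_pow_eq_pow_val, ← Units.val_mul, key]; simp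
      · rw [← Units.val_pow_eq_pow_val, ← Units.val_mul, mul_pow, mul_mul_mul_comm, key,
          ← pow_succ', hord]
        simp
    set δ := 1 + ε * ε' ^ q with hδ
    have hδ0 : δ ≠ 0 := by
      intro h
      have h1 : ε * ε' ^ q = ε * ε ^ q := by rw [hε]; linear_combination h
      have hε0 : ε ≠ 0 := by rintro rfl; simp [zero_pow (show q ≠ 0 by omega)] at hε
      exact hne (by have := mul_left_cancel₀ hε0 h1; rw [← hqq ε, ← hqq ε', this])
    obtain ⟨l, hl⟩ := (Finite.injective_iff_surjective.1 σ.injective) (μ / δ)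
    rw [hσdef] at hl
    have hl0 : l ≠ 0 := by
      rintro rfl
      rw [zero_pow (by omega)] at hl
      exact div_ne_zero hμ0 hδ0 hl.symm
    refine ⟨!![1, l; ε, l * ε'], μ, ?_, ?_⟩
    · rw [det_fin_two_of]
      intro h
      exact hne (mul_left_cancel₀ hl0 (by linear_combination -h))
    · have h01 : l ^ q * δ = μ := by rw [hl, div_mul_cancel₀ _ hδ0]
      have h10 : l * (1 + ε' * ε ^ q) = -μ := by
        have h := congrArg σ h01
        rw [hσdef μ, hμ, hδ, map_mul, map_add, map_one, map_mul] at h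
        simp only [hσdef] at h
        rw [hqq, hqq] at h
        linear_combination h
      ext i j
      fin_cases i <;> fin_cases j <;>
        simp [Matrix.mul_apply, Fin.sum_univ_two, hσdef, mul_pow]
      · linear_combination hε
      · linear_combination h01 + (l ^ q) * hδ.symm
      · linear_combination h10
      · linear_combination (l * l ^ q) * hε'

theorem exists_SL2_to_SU (hq : 5 ≤ q) (hF : Fintype.card F = q ^ 2) (n : ℕ) (hn : 2 ≤ n) :
    ∃ (K : Type) (_ : Field K) (_ : Fintype K), q - 1 ≤ Fintype.card K ∧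
      ∃ φ : SL(2, K) →* Cfsg.SU n F q, Function.Injective φ := by
  classical
  obtain ⟨σ, hσ, K, hK, hcardK, P, μ, hP, hH⟩ := exists_hyperbolic q (by omega) hF
  refine ⟨K, inferInstance, inferInstance, by rwa [← Nat.card_eq_fintype_card], ?_⟩
  obtain ⟨r, rfl⟩ : ∃ r, n = 2 + r := ⟨n - 2, by omega⟩
  let Pu : GL (Fin 2) F := GeneralLinearGroup.mkOfDetNeZero P hP
  let c : SL(2, K) →* GL (Fin 2) F :=
    (MulAut.conj Pu).toMonoidHom.comp
      ((Matrix.SpecialLinearGroup.toGL).comp (Matrix.SpecialLinearGroup.map K.subtype))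
  have hcinj : Function.Injective c := by
    refine (MulAut.conj Pu).injective.comp (Matrix.SpecialLinearGroup.toGL_injective.comp ?_)
    intro a b h
    apply Subtype.ext
    exact Matrix.map_injective K.subtype_injective (congrArg Subtype.val h)
  have hcdet : ∀ g, (c g).1.det = 1 := by
    intro g
    have h : Matrix.GeneralLinearGroup.det (c g) = 1 := by
      simp only [c, MonoidHom.comp_apply, MulEquiv.coe_toMonoidHom, MulAut.conj_apply, map_mul, map_inv]
      rw [mul_comm, inv_mul_cancel_left]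
      ext
      simpa using (Matrix.SpecialLinearGroup.map K.subtype g).2
    simpa using congrArg Units.val h
  have hcform : ∀ g, (c g).1ᵀ * (c g).1.map σ = 1 := by
    intro g
    set G : Matrix (Fin 2) (Fin 2) F := (Matrix.SpecialLinearGroup.map K.subtype g).1 with hG
    have hGσ : G.map σ = G := by
      ext i j
      exact hK _ ((g.1 i j).2)
    have hGH : Gᵀ * !![0, μ; -μ, 0] * G = !![0, μ; -μ, 0] := by
      have hd : G.det = 1 := (Matrix.SpecialLinearGroup.map K.subtype g).2
      rw [det_fin_two] at hd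
      ext i j
      fin_cases i <;> fin_cases j <;> simp [Matrix.mul_apply, Fin.sum_univ_two] <;>
        first
        | linear_combination μ * hd
        | linear_combination -μ * hd
        | ring
    have hcg : (c g).1 = P * G * (Pu⁻¹).1 := by
      simp [c, hG, Pu]
    rw [hcg]
    have hPi : P * (Pu⁻¹).1 = 1 := by
      have h1 := congrArg Units.val (mul_inv_cancel Pu)
      rwa [Units.val_mul, Units.val_one] at h1
    calc (P * G * (Pu⁻¹).1)ᵀ * (P * G * (Pu⁻¹).1).map σ
        = ((Pu⁻¹).1)ᵀ * (Gᵀ * (Pᵀ * P.map σ) * G) * ((Pu⁻¹).1).map σ := by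
          rw [Matrix.map_mul, Matrix.map_mul, hGσ]
          simp only [transpose_mul, mul_assoc]
      _ = ((Pu⁻¹).1)ᵀ * (Pᵀ * P.map σ) * ((Pu⁻¹).1).map σ := by rw [hH, hGH]
      _ = (P * (Pu⁻¹).1)ᵀ * (P * (Pu⁻¹).1).map σ := by
          rw [Matrix.map_mul]
          simp only [transpose_mul, mul_assoc]
      _ = 1 := by rw [hPi]; simp
  let ψ : SL(2, K) →* SL(2 + r, F) :=
    { toFun := fun g => ⟨blockHom F 2 r (c g).1, by rw [det_blockHom]; exact hcdet g⟩
      map_one' := Subtype.ext (by simp)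
      map_mul' := fun a b => Subtype.ext (show blockHom F 2 r (c (a * b)).1 =
        blockHom F 2 r (c a).1 * blockHom F 2 r (c b).1 by rw [map_mul, Units.val_mul, map_mul]) }
  refine ⟨ψ.codRestrict _ (fun g => mem_SU q σ hσ _ ?_), fun a b h => hcinj (Units.ext ?_)⟩
  · show (blockHom F 2 r (c g).1)ᵀ * (blockHom F 2 r (c g).1).map σ = 1
    simp [blockHom, reindex_apply, ← submatrix_map, fromBlocks_map, fromBlocks_transpose,
      submatrix_mul_equiv, fromBlocks_multiply, hcform g]
  · have h1 := congrArg (fun x => ((x : Cfsg.SU (2 + r) F q) : SL(2 + r, F)).1) h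
    exact blockHom_injective F 2 r h1

end unitary

/-- The threshold theorem for the classical groups. -/
theorem exists_bound_classical (w : FreeGroup ℕ) (hw : w ≠ 1) :
    ∃ N : ℕ, 5 ≤ N ∧ (∀ n, N ≤ n → NonCentralValue w (alternatingGroup (Fin n))) ∧
      ∀ (F : Type) [Field F] [Fintype F],
        (∀ n, 2 ≤ n → (N ≤ n ∨ N ≤ Fintype.card F) →
          NonCentralValue w SL(n, F) ∧ NonCentralValue w (Matrix.symplecticGroup (Fin n) F) ∧
          NonCentralValue w (Cfsg.Omega F (Cfsg.quadFormOdd n F)) ∧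
          NonCentralValue w (Cfsg.Omega F (Cfsg.quadFormPlus n F)) ∧
          ∀ a b : F, NonCentralValue w (Cfsg.Omega F (Cfsg.quadFormMinus n F a b))) ∧
        (∀ n q, 2 ≤ n → Fintype.card F = q ^ 2 → 1 ≤ q → (N ≤ n ∨ N ≤ q) →
          NonCentralValue w (Cfsg.SU n F q)) := by
  classical
  obtain ⟨D, hD⟩ := exists_bound_SL2.{0} w hw
  obtain ⟨A, hA⟩ := exists_bound_alternating w hw
  have hsl : ∀ (K : Type) [Field K] [Fintype K], D < Fintype.card K → NonCentralValue w SL(2, K) := by
    intro K _ _ h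
    obtain ⟨f, hf⟩ := hD K h
    exact ⟨f, not_mem_center_SL2 hf⟩
  have halt : ∀ n, A ≤ n → NonCentralValue w (alternatingGroup (Fin n)) :=
    fun n h => (hA n h).imp fun f hf => hf.2
  refine ⟨A + D + 6, by omega, fun n hn => halt n (by omega), fun F _ _ => ⟨?_, ?_⟩⟩
  · intro n hn hbig
    obtain ⟨H, iH, hperf, hval, φ, hφ⟩ : ∃ (H : Type) (_ : Group H), commutator H = ⊤ ∧
        NonCentralValue w H ∧ ∃ φ : H →* SL(n, F), Function.Injective φ := by
      rcases hbig with h | h
      · exact ⟨_, inferInstance, commutator_alternatingGroup_eq_top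
          (by rw [Nat.card_eq_fintype_card, Fintype.card_fin]; omega), halt n (by omega),
          altPerm F n, altPerm_injective F n⟩
      · obtain ⟨r, rfl⟩ : ∃ r, n = 2 + r := ⟨n - 2, by omega⟩
        exact ⟨_, inferInstance, SL2_perfect F (by omega), hsl F (by omega),
          slBlock F 2 r, slBlock_injective F 2 r⟩
    let ψ : H →* GL (Fin n) F := Matrix.SpecialLinearGroup.toGL.comp φ
    have hψ : Function.Injective ψ := Matrix.SpecialLinearGroup.toGL_injective.comp hφ
    refine ⟨hval.map φ hφ, hval.map ((hypSp F n).comp ψ) ((hypSp_injective F n).comp hψ), ?_, ?_, fun a b => ?_⟩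
    · exact hval.map (((hypOdd F n).comp ψ).codRestrict _ (apply_mem_commutator hperf _))
        (fun x y h => hψ (hypOdd_injective F n (congrArg Subtype.val h)))
    · exact hval.map (((hypPlus F n).comp ψ).codRestrict _ (apply_mem_commutator hperf _))
        (fun x y h => hψ (hypPlus_injective F n (congrArg Subtype.val h)))
    · exact hval.map (((hypMinus F n a b).comp ψ).codRestrict _ (apply_mem_commutator hperf _))
        (fun x y h => hψ (hypMinus_injective F n a b (congrArg Subtype.val h)))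
  · intro n q hn hF hq hbig
    rcases hbig with h | h
    · obtain ⟨p, hp⟩ := CharP.exists F
      obtain ⟨k, hpp, hcard⟩ := FiniteField.card F p
      have := hp
      have : ExpChar F p := ExpChar.prime hpp
      obtain ⟨l, -, hl⟩ : ∃ l, l ≤ (k : ℕ) ∧ q = p ^ l := by
        apply (Nat.dvd_prime_pow hpp).1
        rw [← hcard, hF]
        exact dvd_pow_self q two_ne_zero
      refine (halt n (by omega)).map ((altPerm F n).codRestrict _ (altPerm_mem_SU q
        (iterateFrobenius F p l) (fun x => by rw [iterateFrobenius_def, hl]) n)) ?_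
      exact fun x y h => altPerm_injective F n (congrArg Subtype.val h)
    · obtain ⟨K, _, _, hK, φ, hφ⟩ := exists_SL2_to_SU q (by omega) hF n hn
      exact (hsl K (by omega)).map φ hφ

theorem card_matrix (ι : Type) [Fintype ι] [DecidableEq ι] (F : Type) [Fintype F] :
    Nat.card (Matrix ι ι F) = Fintype.card F ^ (Fintype.card ι * Fintype.card ι) := by
  rw [Nat.card_eq_fintype_card]
  show Fintype.card (ι → ι → F) = _
  rw [Fintype.card_fun, Fintype.card_fun, pow_mul]

end Cfsg.Agent.WordMaps.Classical
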